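import Groth.Agent.AlgGrpLib.TorusToProper
import Groth.Agent.SGA3cLib.TrivLocus
import Groth.Agent.MultExt26.GmBase

/-!
# Homomorphisms from tori to proper group schemes
-/

set_option autoImplicit false
set_option backward.isDefEq.respectTransparency.types false
set_option maxHeartbeats 1000000

universe u

open CategoryTheory CategoryTheory.Limits MonoidalCategory CartesianMonoidalCategory MonObj AlgebraicGeometry
open Groth.Agent.SGA3cLib Groth.Agent.AlgGrpLib

namespace Groth.Agent.TorusAb27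

/-- A homomorphism from a torus to a proper finitely presented group scheme is trivial. -/
theorem eq_one {S : Scheme.{u}} {T A : Over S} [GrpObj T] (hT : Red.IsTorus T) [GrpObj A] [IsProper A.hom]
    [LocallyOfFinitePresentation A.hom] (f : T ⟶ A) [IsMonHom f] : f = 1 := by
  haveI : LocallyOfFiniteType A.hom := inferInstance
  obtain ⟨U, -, hUs, hUT⟩ := TrivLocus.exists_clopen f (Or.inr inferInstance) (MultExt26.isMultTypeFT_of_torus T hT)
  have hall : ∀ s : S, s ∈ U := fun s => by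
    rw [hUs]
    obtain ⟨S', q, hfl, hsu, -, hU⟩ := id hT
    obtain ⟨s', hs'⟩ := hsu.surj s
    obtain ⟨V, hmem, r, ⟨E⟩⟩ := hU s'
    let v : (V : Scheme.{u}) := ⟨s', hmem⟩
    let Ω := AlgebraicClosure ((V : Scheme.{u}).residueField v)
    let ω : Spec (CommRingCat.of Ω) ⟶ (V : Scheme.{u}) := Red.geomPt v
    obtain ⟨cD, hcD, -⟩ := CentralEq.exists_bc_DS ω
    let g := ω ≫ V.ι ≫ q
    let α := GrpBC.bcCongr (V.ι ≫ q) ω g rfl
    let a : Red.bc ω (Red.bc (V.ι ≫ q) T) ≅ Red.bc g T := α.app T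
    haveI : IsMonHom a.hom := (GrpBC.isMonHom_app α T).1
    let w : Red.bc (V.ι ≫ q) T ≅ Red.DS (V : Scheme.{u}) (Fin r → ℤ) := (Grp.forget _).mapIso E
    haveI : IsMonHom w.hom := E.hom.hom.isMonHom_hom
    haveI := hcD (Fin r → ℤ)
    let b : Red.bc ω (Red.bc (V.ι ≫ q) T) ≅ Red.bc ω (Red.DS (V : Scheme.{u}) (Fin r → ℤ)) :=
      (Over.pullback ω).mapIso w
    haveI : IsMonHom b.hom := by show IsMonHom ((Over.pullback ω).map w.hom); infer_instance
    let e : Red.bc g T ≅ Red.DS (Spec (CommRingCat.of Ω)) (Fin r → ℤ) := a.symm ≪≫ b ≪≫ cD (Fin r → ℤ)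
    haveI : IsMonHom e.hom := by
      show IsMonHom (a.inv ≫ b.hom ≫ (cD (Fin r → ℤ)).hom)
      infer_instance
    haveI : IsProper (Red.bc g A).hom := MorphismProperty.pullback_snd (P := @IsProper) A.hom g inferInstance
    have h := TorusToProper.eq_one_of_split (e.inv ≫ (Over.pullback g).map f) (by
      rw [← Category.assoc, MonObj.one_comp, MonObj.one_comp])
    have hg : (Over.pullback g).map f = 1 := by rw [← cancel_epi e.inv, h, MonObj.comp_one]
    have hv : g.base (IsLocalRing.closedPoint Ω) = s := by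
      have h1 : ω.base (IsLocalRing.closedPoint Ω) = v := by
        simp only [ω, Red.geomPt]
        rw [Scheme.Hom.comp_apply]
        exact Scheme.fromSpecResidueField_apply _ _
      simp only [g, Scheme.Hom.comp_apply, h1]
      exact hs'
    rw [← hv, ← TrivLocus.triv_field]
    exact (TrivLocus.triv_iff_map f g).2 hg
  have hT1 : TrivLocus.Triv f (𝟙 S) := hUT.of_comp f (IsOpenImmersion.lift U.ι (𝟙 S) (by
    rw [Scheme.Opens.range_ι]; exact fun s _ => hall s)) (IsOpenImmersion.lift_fac _ _ _)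
  simpa using hT1 T (Over.homMk T.hom (Category.comp_id _)) (𝟙 T)

/-- Tori are stable under base change. -/
theorem isTorus_bc {S S' : Scheme.{u}} (f : S' ⟶ S) (H : Over S) [GrpObj H] (hH : Red.IsTorus H) :
    Red.IsTorus (Red.bc f H) := by
  obtain ⟨Q, q, hfl, hsu, hq, hU⟩ := hH
  haveI := hfl
  have hcov := (IsFpqcCov.of_forall q hq).pullback_snd f
  refine ⟨pullback q f, pullback.snd q f, hcov.1, hcov.surjective, fun V hV => BCPoints.forall_affine hcov V hV,
    fun z => ?_⟩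
  obtain ⟨U, hzU, r, ⟨e⟩⟩ := hU ((pullback.fst q f).base z)
  refine ⟨pullback.fst q f ⁻¹ᵁ U, hzU, r, ?_⟩
  let g : (pullback.fst q f ⁻¹ᵁ U : Scheme.{u}) ⟶ S' := (pullback.fst q f ⁻¹ᵁ U).ι ≫ pullback.snd q f
  obtain ⟨i, hi, hi'⟩ := GrpBC.nonempty_iso_restrict (U.ι ≫ q) ((pullback.fst q f).resLE U _ le_rfl) (g ≫ f) (by
    rw [Scheme.Hom.resLE_comp_ι_assoc, pullback.condition, Category.assoc]) H e
  let α := GrpBC.bcCongr f g (g ≫ f) rfl
  obtain ⟨h₁, h₂⟩ := GrpBC.isMonHom_app α H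
  let a : Red.bc g (Red.bc f H) ≅ Red.bc (g ≫ f) H := α.app H
  haveI : IsMonHom a.hom := h₁
  haveI := hi
  haveI : IsMonHom (a ≪≫ i).hom := by show IsMonHom (a.hom ≫ i.hom); infer_instance
  exact ⟨Grp.mkIso (a ≪≫ i) (IsMonHom.one_hom _) (IsMonHom.mul_hom _)⟩

end Groth.Agent.TorusAb27
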