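import Groth.Agent.TorusAb27.AbToAffine
import Groth.Prelude

/-!
# Vanishing of the sheaf of homomorphisms from triviality of homomorphisms after base change
-/

set_option autoImplicit false
set_option linter.style.haveILetI false
set_option backward.isDefEq.respectTransparency.types false

universe u

open CategoryTheory CategoryTheory.Limits MonoidalCategory CartesianMonoidalCategory MonObj AlgebraicGeometry

namespace Groth.Agent.TorusAb27

/-- If all homomorphisms `T → A` are trivial after every base change, the sheaf of homomorphisms is zero. -/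
theorem homSh_isZero {S : Scheme.{u}} (T A : Over S) [GrpObj T] [IsCommMonObj T] [GrpObj A] [IsCommMonObj A]
    (htriv : ∀ (X : Over S) (v : Red.bc X.hom T ⟶ Red.bc X.hom A), IsMonHom v → v = 1) :
    IsZero (HomSh.homSh (QuotSh.J Scheme.fppfPrecoverage S) (CGrpSh.pts Scheme.fppfPrecoverage T)
      (CGrpSh.pts Scheme.fppfPrecoverage A)) := by
  let J := QuotSh.J Scheme.fppfPrecoverage S
  let F := CGrpSh.pts Scheme.fppfPrecoverage T
  let G := CGrpSh.pts Scheme.fppfPrecoverage A
  have key : ∀ (X : Over S) (φ : F.over X ⟶ G.over X), φ = 0 := by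
    intro X φ
    let cmp : ∀ (V : Over X), (V.left ⟶ T) → (V.left ⟶ A) := fun V x =>
      (φ.hom.app (Opposite.op V) (ULift.up (Additive.ofMul x))).down.toMul
    have hmul : ∀ (V : Over X) (x y : V.left ⟶ T), cmp V (x * y) = cmp V x * cmp V y := fun V x y =>
      congrArg (fun z => (ULift.down z).toMul)
        (map_add (φ.hom.app (Opposite.op V)).hom (ULift.up (Additive.ofMul x)) (ULift.up (Additive.ofMul y)))
    have hnat : ∀ {V W : Over X} (t : V ⟶ W) (x : W.left ⟶ T), cmp V (t.left ≫ x) = t.left ≫ cmp W x :=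
      fun {V W} t x => congrArg (fun z => (ULift.down z).toMul)
        (ConcreteCategory.congr_hom (φ.hom.naturality (Quiver.Hom.op t)) (ULift.up (Additive.ofMul x)))
    let pts : ∀ (X' : Over X.left), Over X := fun X' =>
      Over.mk (Y := (Over.map X.hom).obj X') (Over.homMk X'.hom rfl)
    let T' := Red.bc X.hom T
    let x₀ : (Over.map X.hom).obj T' ⟶ T := (Groth.Agent.SGA3cLib.BCPoints.pt X.hom T T').symm (𝟙 T')
    let u : T' ⟶ Red.bc X.hom A := Groth.Agent.SGA3cLib.BCPoints.pt X.hom A T' (cmp (pts T') x₀)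
    have hu : ∀ (X' : Over X.left) (z : X' ⟶ T'),
        z ≫ u = Groth.Agent.SGA3cLib.BCPoints.pt X.hom A X'
          (cmp (pts X') ((Groth.Agent.SGA3cLib.BCPoints.pt X.hom T X').symm z)) := by
      intro X' z
      rw [← Groth.Agent.SGA3cLib.BCPoints.pt_map_comp]
      congr 1
      let t : pts X' ⟶ pts T' := Over.homMk ((Over.map X.hom).map z) (Over.OverMorphism.ext (Over.w z))
      refine (hnat t x₀).symm.trans (congrArg (cmp (pts X')) ?_)
      apply (Groth.Agent.SGA3cLib.BCPoints.pt X.hom T X').injective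
      rw [Equiv.apply_symm_apply]
      show Groth.Agent.SGA3cLib.BCPoints.pt X.hom T X' ((Over.map X.hom).map z ≫ x₀) = z
      rw [Groth.Agent.SGA3cLib.BCPoints.pt_map_comp, Equiv.apply_symm_apply, Category.comp_id]
    haveI : IsMonHom u := Groth.Agent.SGA3cLib.BCPoints.isMonHom_of_mul u fun X' a b => by
      rw [hu, hu, hu, ← Groth.Agent.SGA3cLib.BCPoints.pt_mul, ← hmul]
      congr 2
      apply (Groth.Agent.SGA3cLib.BCPoints.pt X.hom T X').injective
      rw [Groth.Agent.SGA3cLib.BCPoints.pt_mul, Equiv.apply_symm_apply, Equiv.apply_symm_apply, Equiv.apply_symm_apply]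
    have hu1 : u = 1 := htriv X u ‹_›
    refine Sheaf.hom_ext (NatTrans.ext (funext fun V => AddCommGrpCat.ext fun x => ?_))
    obtain ⟨V⟩ := V
    obtain ⟨x⟩ := x
    refine ULift.ext _ _ ?_
    show cmp V x.toMul = (1 : V.left ⟶ A)
    let X' : Over X.left := Over.mk V.hom.left
    let κ : V ⟶ pts X' := Over.homMk (Over.homMk (𝟙 _) ((Category.id_comp _).trans (Over.w V.hom)))
      (Over.OverMorphism.ext (Category.id_comp _))
    let κ' : pts X' ⟶ V := Over.homMk (Over.homMk (𝟙 _) ((Category.id_comp _).trans (Over.w V.hom).symm))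
      (Over.OverMorphism.ext (Category.id_comp _))
    have hκ : κ.left ≫ κ'.left = 𝟙 V.left := Over.OverMorphism.ext (Category.id_comp _)
    have h1 := hu X' (Groth.Agent.SGA3cLib.BCPoints.pt X.hom T X' (κ'.left ≫ x.toMul))
    rw [hu1, MonObj.comp_one, Equiv.symm_apply_apply] at h1
    have h2 : cmp (pts X') (κ'.left ≫ x.toMul) = 1 := by
      apply (Groth.Agent.SGA3cLib.BCPoints.pt X.hom A X').injective
      exact h1.symm.trans (map_one (MonoidHom.mk' (Groth.Agent.SGA3cLib.BCPoints.pt X.hom A X')
        (Groth.Agent.SGA3cLib.BCPoints.pt_mul X.hom))).symm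
    calc cmp V x.toMul = cmp V (κ.left ≫ κ'.left ≫ x.toMul) := by rw [← Category.assoc, hκ, Category.id_comp]
      _ = 1 := by rw [hnat, h2, MonObj.comp_one]
  refine (Limits.IsZero.iff_id_eq_zero _).2 (Sheaf.hom_ext (NatTrans.ext (funext fun X => AddCommGrpCat.ext fun φ => ?_)))
  exact key _ φ

/-- There is no homomorphism from an abelian scheme to a torus, as sheaves. -/
theorem homSh_ab_torus_isZero {S : Scheme.{u}} (A T : Over S) [GrpObj A] [IsCommMonObj A] [Smooth A.hom]
    [IsProper A.hom] (hA : ∀ s : S, ConnectedSpace ↥(A.hom.fiber s)) [GrpObj T] [IsCommMonObj T] (hT : Red.IsTorus T) :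
    IsZero (HomSh.homSh (QuotSh.J Scheme.fppfPrecoverage S) (CGrpSh.pts Scheme.fppfPrecoverage A)
      (CGrpSh.pts Scheme.fppfPrecoverage T)) := by
  haveI := AbSchLib.geometricallyConnected_of_section A.hom η[A].left (Over.w η[A]) hA
  haveI := SGA3cLib.torus_isAffineHom hT
  haveI : LocallyOfFinitePresentation T.hom :=
    SGA3cLib.TrivLocus.locallyOfFinitePresentation_of_multTypeFT T (MultExt26.isMultTypeFT_of_torus T hT)
  refine homSh_isZero A T fun X v _ => ?_
  haveI : Smooth (Red.bc X.hom A).hom := MorphismProperty.pullback_snd (P := @Smooth) A.hom X.hom inferInstance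
  haveI : IsProper (Red.bc X.hom A).hom := MorphismProperty.pullback_snd (P := @IsProper) A.hom X.hom inferInstance
  haveI : GeometricallyConnected (Red.bc X.hom A).hom :=
    MorphismProperty.pullback_snd (P := @GeometricallyConnected) A.hom X.hom inferInstance
  haveI : IsAffineHom (Red.bc X.hom T).hom :=
    MorphismProperty.pullback_snd (P := @IsAffineHom) T.hom X.hom inferInstance
  haveI : LocallyOfFiniteType (Red.bc X.hom T).hom :=
    MorphismProperty.pullback_snd (P := @LocallyOfFiniteType) T.hom X.hom inferInstance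
  exact eq_one_of_affine _ _ v

end Groth.Agent.TorusAb27
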