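import Groth.Agent.TorusAb27.Basic
import Groth.Agent.AbSchLib.ConnectedFibres
import Groth.Agent.AbSchLib.GlobalSections
import Groth.Agent.AbSchLib.SmoothReduced
import Groth.Agent.AbSchLib.RigidityOver
import Groth.Prelude

/-!
# Homomorphisms from abelian schemes to affine group schemes
-/

set_option autoImplicit false
set_option backward.isDefEq.respectTransparency.types false

universe u

open CategoryTheory CategoryTheory.Limits MonoidalCategory CartesianMonoidalCategory MonObj AlgebraicGeometry

namespace Groth.Agent.TorusAb27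

/-- A map from a proper reduced connected scheme over a field to an affine scheme has one-point image. -/
theorem image_subsingleton (K : Type u) [Field K] {X Y : Scheme.{u}} (f : X ⟶ Spec (CommRingCat.of K))
    [UniversallyClosed f] [IsReduced X] [ConnectedSpace X] [IsAffine Y] (g : X ⟶ Y) :
    (Set.range g.base).Subsingleton := by
  let F := (Scheme.ΓSpecIso (CommRingCat.of K)).inv ≫ f.appTop
  have : F.hom.IsIntegral := by
    apply RingHom.isIntegral_respectsIso.2 (e := (Scheme.ΓSpecIso _).symm.commRingCatIsoToRingEquiv)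
    exact isIntegral_appTop_of_universallyClosed f
  algebraize [F.hom]
  let := (AbSchLib.isField_of_isIntegral (X := X) K).toField
  rintro _ ⟨x, rfl⟩ _ ⟨x', rfl⟩
  have e : g = X.toSpecΓ ≫ Spec.map g.appTop ≫ Y.isoSpec.inv := by
    rw [← Scheme.toSpecΓ_naturality_assoc]
    simp [Scheme.isoSpec]
  haveI : Subsingleton ↥(Spec Γ(X, ⊤)) := inferInstanceAs (Subsingleton (PrimeSpectrum Γ(X, ⊤)))
  have h : X.toSpecΓ x = X.toSpecΓ x' := Subsingleton.elim _ _
  rw [e]
  simp only [Scheme.Hom.comp_apply]
  rw [h]

variable {S : Scheme.{u}}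

/-- A homomorphism from an abelian scheme to an affine group scheme is trivial. -/
theorem eq_one_of_affine (A T : Over S) [GrpObj A] [Smooth A.hom] [IsProper A.hom] [GeometricallyConnected A.hom]
    [GrpObj T] [IsAffineHom T.hom] [LocallyOfFiniteType T.hom] (u : A ⟶ T) [IsMonHom u] : u = 1 := by
  haveI := AbSchLib.geometricallyReduced_of_smooth A.hom
  haveI : LocallyOfFinitePresentation A.hom := inferInstance
  have h : ∀ s, s ∈ AbSchLib.collapsedLocus A.hom u.left := by
    intro s
    rintro _ ⟨z, hz, rfl⟩ _ ⟨z', hz', rfl⟩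
    let K := S.residueField s
    let ψ : A.hom.fiber s ⟶ T.hom.fiber s :=
      pullback.map A.hom (S.fromSpecResidueField s) T.hom (S.fromSpecResidueField s) u.left (𝟙 _) (𝟙 _)
        (by simp) (by simp)
    haveI : IsProper (pullback.snd A.hom (S.fromSpecResidueField s)) :=
      MorphismProperty.pullback_snd (P := @IsProper) A.hom _ inferInstance
    haveI : Smooth (pullback.snd A.hom (S.fromSpecResidueField s)) :=
      MorphismProperty.pullback_snd (P := @Smooth) A.hom _ inferInstance
    haveI : IsReduced (A.hom.fiber s) :=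
      @AbSchLib.isReduced_of_smooth _ _ (pullback.snd A.hom (S.fromSpecResidueField s))
        (MorphismProperty.pullback_snd (P := @Smooth) A.hom _ inferInstance) inferInstance
    haveI : ConnectedSpace (A.hom.fiber s) := by
      haveI : ConnectedSpace (A.hom ⁻¹' {s} : Set A.left) :=
        isConnected_iff_connectedSpace.1 (A.hom.isConnected_preimage_singleton s)
      exact (A.hom.fiberHomeo s).symm.surjective.connectedSpace (A.hom.fiberHomeo s).symm.continuous
    have hsub := image_subsingleton (S.residueField s) (pullback.snd A.hom (S.fromSpecResidueField s)) ψ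
    have key : ∀ x : A.left, A.hom x = s → ∃ y : A.hom.fiber s, T.hom.fiberι s (ψ y) = u.left x := by
      intro x hx
      obtain ⟨y, hy⟩ : x ∈ Set.range (A.hom.fiberι s) := by
        rw [Scheme.Hom.range_fiberι]
        exact hx
      refine ⟨y, ?_⟩
      have e : ψ ≫ T.hom.fiberι s = A.hom.fiberι s ≫ u.left := pullback.lift_fst _ _ _
      rw [← Scheme.Hom.comp_apply, e, Scheme.Hom.comp_apply, hy]
    obtain ⟨y, hy⟩ := key z hz
    obtain ⟨y', hy'⟩ := key z' hz'
    rw [← hy, ← hy']
    exact congrArg _ (hsub ⟨y, rfl⟩ ⟨y', rfl⟩)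
  haveI : IsSeparated T.hom := inferInstance
  rw [AbSchLib.eq_toUnit_comp_of_collapsed A T η[A] u h, IsMonHom.one_hom]
  rfl

end Groth.Agent.TorusAb27
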